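import Cfsg.Agent.Lib.HSOut.Data
import Cfsg.Agent.Lib.Hexad22.RankThreeHS
import Cfsg.Agent.Lib.Mathieu.Sift

/-!
The model on 100 points is the Higman–Sims group.
-/

set_option autoImplicit false
set_option maxRecDepth 100000
set_option maxHeartbeats 1000000

namespace Cfsg.Agent.HSOut

open Cfsg.Agent.Mathieu MulAction

/-- The enumeration of the points. -/
abbrev enc : Fin 100 ≃ Fin 100 := Equiv.refl _

/-- Adjacency as a Boolean. -/
def adjB (i j : ℕ) : Bool := (adjL.getD i 0).testBit j

theorem nbr_eq : nbrL = adjL.map fun a => (List.range 100).filter a.testBit := by decide +kernel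

theorem adj_length : adjL.length = 100 := by decide +kernel

/-- The check of the parameters, symmetry and irreflexivity. -/
def srgCheck : Bool :=
  (adjL.zip nbrL).zipIdx.all fun p =>
    (p.1.2.length == 22 && !p.1.1.testBit p.2) && adjL.zipIdx.all fun q =>
      (p.1.1.testBit q.2 == q.1.testBit p.2) &&
        (p.2 == q.2 || (p.1.2.filter q.1.testBit).length == if p.1.1.testBit q.2 then 0 else 6)

theorem srg_check : srgCheck = true := by decide +kernel

theorem srg_spec (i j : Fin 100) :
    ((List.range 100).filter fun k => adjB i k).length = 22 ∧ adjB i i = false ∧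
      adjB i j = adjB j i ∧
      (i ≠ j → ((List.range 100).filter fun k => adjB i k && adjB j k).length =
        if adjB i j then 0 else 6) := by
  have hl := adj_length
  have hi : (i : ℕ) < adjL.length := by omega
  have hj : (j : ℕ) < adjL.length := by omega
  have hadj : ∀ (k : ℕ) (hk : k < adjL.length), adjL.getD k 0 = adjL[k] := fun k hk =>
    List.getD_eq_getElem _ _ hk
  have h := srg_check
  simp only [srgCheck, List.all_eq_true] at h
  have hp : ((adjL[(i : ℕ)], (List.range 100).filter adjL[(i : ℕ)].testBit), (i : ℕ)) ∈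
      (adjL.zip nbrL).zipIdx := by
    rw [List.mk_mem_zipIdx_iff_getElem?, List.getElem?_zip_eq_some]
    exact ⟨List.getElem?_eq_getElem hi, by
      simp only [nbr_eq, List.getElem?_map, List.getElem?_eq_getElem hi, Option.map_some]⟩
  have hq : (adjL[(j : ℕ)], (j : ℕ)) ∈ adjL.zipIdx :=
    List.mk_mem_zipIdx_iff_getElem?.2 (List.getElem?_eq_getElem hj)
  have h1 := h _ hp
  simp only [Bool.and_eq_true, beq_iff_eq, Bool.not_eq_eq_eq_not, Bool.not_true,
    List.all_eq_true] at h1
  obtain ⟨⟨h22, hirr⟩, h2⟩ := h1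
  obtain ⟨hsym, hc⟩ := by simpa only [Bool.and_eq_true, beq_iff_eq] using h2 _ hq
  unfold adjB
  rw [hadj _ hi, hadj _ hj]
  refine ⟨h22, hirr, hsym, fun hne => ?_⟩
  rw [Bool.or_eq_true, beq_iff_eq, beq_iff_eq, or_iff_right (fun e => hne (Fin.ext e))] at hc
  rw [← hc, List.filter_filter]
  congr 1
  exact List.filter_congr fun k _ => Bool.and_comm _ _

/-- The graph. -/
def graph : SimpleGraph (Fin 100) where
  Adj i j := adjB i j = true
  symm := ⟨fun i j h => show adjB j i = true by rw [← (srg_spec i j).2.2.1]; exact h⟩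
  loopless := ⟨fun i h => Bool.false_ne_true ((srg_spec i i).2.1.symm.trans h)⟩

instance instDecidableAdj : DecidableRel graph.Adj := fun i j =>
  inferInstanceAs (Decidable (adjB i j = true))

theorem card_filter_fin (p : ℕ → Bool) :
    (Finset.univ.filter fun i : Fin 100 => p i = true).card =
      ((List.range 100).filter p).length := by
  rw [← List.toFinset_card_of_nodup (List.nodup_range.filter p),
    ← Finset.card_map Fin.valEmbedding]
  congr 1
  ext k
  simp only [Finset.mem_map, Finset.mem_filter, Finset.mem_univ, true_and, Fin.valEmbedding_apply,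
    List.mem_toFinset, List.mem_filter, List.mem_range]
  exact ⟨fun ⟨i, h, e⟩ => e ▸ ⟨i.isLt, h⟩, fun ⟨h, h'⟩ => ⟨⟨k, h⟩, h', rfl⟩⟩

theorem graph_srg : graph.IsSRGWith 100 22 0 6 where
  card := Fintype.card_fin 100
  regular := fun i => by
    rw [← SimpleGraph.card_neighborFinset_eq_degree, ← (srg_spec i i).1, ← card_filter_fin]
    congr 1
    ext j
    rw [SimpleGraph.mem_neighborFinset, Finset.mem_filter]
    exact ⟨fun h => ⟨Finset.mem_univ _, h⟩, fun h => h.2⟩
  of_adj := fun i j h => by
    have e := (srg_spec i j).2.2.2 (fun e => graph.irrefl (e ▸ h))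
    rw [show adjB i j = true from h, if_pos rfl, ← card_filter_fin] at e
    rw [← e, ← Set.toFinset_card]
    congr 1
    ext k
    rw [Set.mem_toFinset, SimpleGraph.mem_commonNeighbors, Finset.mem_filter, Bool.and_eq_true]
    exact ⟨fun h => ⟨Finset.mem_univ _, h⟩, fun h => h.2⟩
  of_not_adj := fun i j hne h => by
    have e := (srg_spec i j).2.2.2 hne
    rw [show adjB i j = false from Bool.eq_false_iff.2 h, if_neg Bool.false_ne_true,
      ← card_filter_fin] at e
    rw [← e, ← Set.toFinset_card]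
    congr 1
    ext k
    rw [Set.mem_toFinset, SimpleGraph.mem_commonNeighbors, Finset.mem_filter, Bool.and_eq_true]
    exact ⟨fun h => ⟨Finset.mem_univ _, h⟩, fun h => h.2⟩

/-- The automorphism group of the graph as a permutation group. -/
def autGrp : Subgroup (Equiv.Perm (Fin 100)) where
  carrier := {σ | ∀ i j, graph.Adj (σ i) (σ j) ↔ graph.Adj i j}
  one_mem' := fun _ _ => Iff.rfl
  mul_mem' := fun {σ τ} h h' i j => (h (τ i) (τ j)).trans (h' i j)
  inv_mem' := fun {σ} h i j => by
    have := h (σ⁻¹ i) (σ⁻¹ j)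
    simp only [← Equiv.Perm.mul_apply, mul_inv_cancel, Equiv.Perm.one_apply] at this
    exact this.symm

/-- A packed permutation preserves the graph. -/
def presGraph (l : ℕ) : Bool :=
  adjL.zipIdx.all fun p => (nbrL.getD p.2 []).all fun j => adjB (app l p.2) (app l j)

theorem mem_autGrp {σ : Equiv.Perm (Fin 100)} {l : ℕ} (hr : Rep enc σ l)
    (h : presGraph l = true) : σ ∈ autGrp := by
  classical
  have h1 : ∀ i j, graph.Adj i j → graph.Adj (σ i) (σ j) := by
    intro i j hij
    simp only [presGraph, List.all_eq_true] at h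
    have hi : (i : ℕ) < adjL.length := by rw [adj_length]; exact i.isLt
    have h2 := h (adjL[(i : ℕ)], (i : ℕ))
      (List.mk_mem_zipIdx_iff_getElem?.2 (List.getElem?_eq_getElem hi))
    have hj : (j : ℕ) ∈ nbrL.getD (i : ℕ) [] := by
      rw [nbr_eq, List.getD_eq_getElem _ _ (by rw [List.length_map]; exact hi), List.getElem_map,
        List.mem_filter, List.mem_range]
      refine ⟨j.isLt, ?_⟩
      have : adjB i j = true := hij
      rwa [adjB, List.getD_eq_getElem _ _ hi] at this
    have h3 := h2 _ hj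
    show adjB (σ i : Fin 100).val (σ j : Fin 100).val = true
    have e1 : (σ i).val = app l i.val := hr i
    have e2 : (σ j).val = app l j.val := hr j
    rwa [e1, e2]
  intro i j
  refine ⟨fun hσ => ?_, h1 i j⟩
  have hd : ∀ k, (graph.neighborFinset k).card = 22 := fun k => by
    rw [SimpleGraph.card_neighborFinset_eq_degree]; exact graph_srg.regular k
  have himg : (graph.neighborFinset i).image σ = graph.neighborFinset (σ i) := by
    refine Finset.eq_of_subset_of_card_le (fun x hx => ?_) ?_
    · obtain ⟨y, hy, rfl⟩ := Finset.mem_image.1 hx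
      rw [SimpleGraph.mem_neighborFinset] at hy ⊢
      exact h1 i y hy
    · rw [Finset.card_image_of_injective _ σ.injective, hd, hd]
  have := (SimpleGraph.mem_neighborFinset (G := graph) (σ i) (σ j)).2 hσ
  rw [← himg, σ.injective.mem_finset_image, SimpleGraph.mem_neighborFinset] at this
  exact this

/-- An embedding into the automorphism group of the hexad graph. -/
theorem exists_embedding : ∃ ψ : autGrp →*
    (Cfsg.pointBlockGraph Hexad22.hexads ≃g Cfsg.pointBlockGraph Hexad22.hexads),
      Function.Injective ψ := by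
  classical
  haveI : Fintype Hexad22.hexads := Fintype.ofFinite _
  obtain ⟨φ, -⟩ := Hexad22.exists_pbg_iso graph_srg (0 : Fin 100)
  obtain ⟨e, he⟩ := Hexad22.exists_iso_22 (Hexad22.card_Nbr graph_srg (0 : Fin 100))
    Hexad22.card_pt22 (Hexad22.nbrBlock_steiner graph_srg (0 : Fin 100)) Hexad22.hexads_steiner
  set Φ : graph ≃g Cfsg.pointBlockGraph Hexad22.hexads := φ.symm.trans (Hexad22.mapIso e he)
  refine ⟨{ toFun := fun g => (Φ.symm.trans ⟨g.1, fun {x y} => g.2 x y⟩).trans Φ
            map_one' := RelIso.ext fun x => ?_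
            map_mul' := fun g h => RelIso.ext fun x => ?_ }, fun g h e => ?_⟩
  · show Φ (Φ.symm x) = x
    rw [RelIso.apply_symm_apply]
  · show Φ (g.1 (h.1 (Φ.symm x))) = Φ (g.1 (Φ.symm (Φ (h.1 (Φ.symm x)))))
    rw [RelIso.symm_apply_apply]
  · refine Subtype.ext (Equiv.ext fun i => ?_)
    have := DFunLike.congr_fun e (Φ i)
    change Φ (g.1 (Φ.symm (Φ i))) = Φ (h.1 (Φ.symm (Φ i))) at this
    rw [RelIso.symm_apply_apply] at this
    exact Φ.injective this

/-- The generated group. -/
def grp : Subgroup (Equiv.Perm (Fin 100)) := genGroup enc gens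

/-- The other elements used in the certificates. -/
def extraLevels : List CertLevel :=
  [farLevel, (0, [], [rigidHS.x, rigidHS.y, rigidHS.t])]

theorem reps : ∀ t ∈ allReps (levels ++ extraLevels), ∃ σ ∈ grp, Rep enc σ t :=
  reps_genGroup (by decide +kernel) (steps := steps) (by decide +kernel) (by decide +kernel)

theorem reps_levels : ∀ t ∈ allReps levels, ∃ σ ∈ grp, Rep enc σ t := fun t ht =>
  reps t (by rw [allReps, List.flatMap_append]; exact List.mem_append_left _ ht)

theorem gens_check : ∀ l ∈ gens, presGraph l = true ∧ isId 100 (packPowS 100 l 7) = true := by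
  decide +kernel

theorem grp_le : grp ≤ autGrp :=
  genGroup_le fun _ l hl hσ => mem_autGrp hσ (gens_check l hl).1

theorem levels_ok : levelsOK 100 [] levels = true := by decide +kernel

theorem levels_prod : (levels.map fun p => p.2.1.length).prod = 44352000 := by decide +kernel

/-- The listed orbits are lower bounds, and upper bounds if their product bounds the order. -/
theorem lower_upper {α : Type*} [Finite α] [DecidableEq α] {n : ℕ} [NeZero n] {e : α ≃ Fin n}
    {H : Subgroup (Equiv.Perm α)} :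
    ∀ (levels : List CertLevel) (fixed : List ℕ) (K : Subgroup (Equiv.Perm α)),
      (∀ i ∈ fixed, i < n) → (∀ σ ∈ H, (∀ i ∈ fixed, σ (idx e i) = idx e i) → σ ∈ K) →
      levelsOK n fixed levels = true → (∀ t ∈ allReps levels, ∃ σ ∈ H, Rep e σ t) →
      (levels.map fun p => p.2.1.length).prod ≤ Nat.card K ∧
        (Nat.card K ≤ (levels.map fun p => p.2.1.length).prod →
          Upper e K levels ∧ fixList K (levels.map fun p => idx e p.1) = ⊥) := by
  intro levels
  induction levels with
  | nil =>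
    intro fixed K _ _ _ _
    simp only [List.map_nil, List.prod_nil]
    exact ⟨Nat.card_pos, fun h => ⟨trivial, Subgroup.eq_bot_of_card_le K h⟩⟩
  | cons p rest ih =>
    obtain ⟨b, orb, ts⟩ := p
    intro fixed K hfx hK hok hrep
    simp only [levelsOK, Bool.and_eq_true, decide_eq_true_eq, beq_iff_eq, List.all_eq_true] at hok
    obtain ⟨⟨⟨⟨⟨hb, horb⟩, hnd⟩, hmap⟩, hfix⟩, hrest⟩ := hok
    set K' := K ⊓ MulAction.stabilizer (Equiv.Perm α) (idx e b)
    obtain ⟨hlow, hupp⟩ := ih (b :: fixed) K' (List.forall_mem_cons.2 ⟨hb, hfx⟩)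
      (fun σ hσ hf => ⟨hK σ hσ fun i hi => hf i (List.mem_cons_of_mem _ hi),
        hf b List.mem_cons_self⟩) hrest
      (fun t ht => hrep t (by rw [allReps, List.flatMap_cons]; exact List.mem_append_right _ ht))
    let O : Finset α := (Set.toFinite {x | ∃ σ ∈ K, σ (idx e b) = x}).toFinset
    have hcard := card_eq_orbit_mul K (idx e b) O (fun x => by simp [O])
    set L := (orb.map (idx e)).toFinset with hL
    have hsub : L ⊆ O := by
      intro x hx
      simp only [hL, List.mem_toFinset, List.mem_map] at hx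
      obtain ⟨i, hi, rfl⟩ := hx
      obtain ⟨t, ht, rfl⟩ : ∃ t ∈ ts, app t b = i := by
        rw [← hmap] at hi; simpa using hi
      obtain ⟨σ, hσH, hσ⟩ := hrep t (List.mem_flatMap.2 ⟨(b, orb, ts), List.mem_cons_self, ht⟩)
      simp only [O, Set.Finite.mem_toFinset]
      refine ⟨σ, hK σ hσH (fun i hi => ?_), hσ.apply_idx hb⟩
      rw [hσ.apply_idx (hfx i hi), hfix t ht i hi]
    have hLc : L.card = orb.length := by
      rw [hL, List.toFinset_card_of_nodup (hnd.map_on fun x hx y hy hxy => by
        rw [← idx_val (e := e) (horb x hx), hxy, idx_val (horb y hy)]), List.length_map]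
    have hle := hLc ▸ Finset.card_le_card hsub
    simp only [List.map_cons, List.prod_cons]
    refine ⟨hcard ▸ Nat.mul_le_mul hle hlow, fun h => ?_⟩
    rw [hcard] at h
    have hpos : 0 < Nat.card K' := Nat.card_pos
    have hO0 : 0 < O.card := Finset.card_pos.2 ⟨idx e b, by
      simp only [O, Set.Finite.mem_toFinset]; exact ⟨1, K.one_mem, rfl⟩⟩
    have hK'le : Nat.card K' ≤ (rest.map fun p => p.2.1.length).prod :=
      Nat.le_of_mul_le_mul_left (h.trans (Nat.mul_le_mul_right _ hle)) hO0
    obtain ⟨hu, hbot⟩ := hupp hK'le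
    refine ⟨⟨fun σ hσ => ?_, hu⟩, hbot⟩
    have hOL : O = L := (Finset.eq_of_subset_of_card_le hsub (hLc ▸
      Nat.le_of_mul_le_mul_right (h.trans (Nat.mul_le_mul_left _ hlow)) hpos)).symm
    have hmem : σ (idx e b) ∈ O := by
      simp only [O, Set.Finite.mem_toFinset]; exact ⟨σ, hσ, rfl⟩
    rw [hOL, hL, List.mem_toFinset, List.mem_map] at hmem
    obtain ⟨i, hi, he⟩ := hmem
    rw [← he, idx_val (horb i hi)]
    exact hi

/-- The image of the generators lies in the simple subgroup. -/
theorem exists_hom_simple : ∃ ψ : autGrp →*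
    (Cfsg.pointBlockGraph Hexad22.hexads ≃g Cfsg.pointBlockGraph Hexad22.hexads),
      Function.Injective ψ ∧
        ∃ H : Subgroup (Cfsg.pointBlockGraph Hexad22.hexads ≃g Cfsg.pointBlockGraph Hexad22.hexads),
          Cfsg.IsHS H ∧ (grp.subgroupOf autGrp).map ψ ≤ H := by
  classical
  haveI : Fintype Hexad22.hexads := Fintype.ofFinite _
  haveI : Finite (Cfsg.pointBlockGraph Hexad22.hexads ≃g Cfsg.pointBlockGraph Hexad22.hexads) :=
    Finite.of_injective _ (Hexad22.permHom_injective _)
  obtain ⟨ψ, hψ⟩ := exists_embedding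
  obtain ⟨H, hH⟩ := Hexad22.exists_simple
  refine ⟨ψ, hψ, H, hH, ?_⟩
  have hidx : H.index = 2 := by
    have := H.card_mul_index
    rw [hH.2, Hexad22.card_graphAut Hexad22.card_pt22 Hexad22.hexads_steiner] at this
    omega
  have hle : grp ≤ (H.comap ψ).map autGrp.subtype := by
    refine genGroup_le fun σ l hl hσ => ?_
    have hA : σ ∈ autGrp := grp_le (Subgroup.subset_closure ⟨l, hl, hσ⟩)
    refine ⟨⟨σ, hA⟩, ?_, rfl⟩
    have h7 : (⟨σ, hA⟩ : autGrp) ^ 7 = 1 := by
      refine Subtype.ext ((rep_packPow (by norm_num) hσ 7).eq_one ?_)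
      rw [← packPowS_eq]
      exact (gens_check l hl).2
    rw [SetLike.mem_coe, Subgroup.mem_comap]
    set k := ψ ⟨σ, hA⟩
    have h7' : k ^ 7 = 1 := by rw [← map_pow, h7, map_one]
    have h2 : ∀ z, z ^ 2 ∈ H := fun z => Subgroup.sq_mem_of_index_two hidx z
    have : k = (k ^ 2) ^ 4 := by rw [← pow_mul, show 2 * 4 = 7 + 1 from rfl, pow_succ, h7', one_mul]
    rw [this]
    exact H.pow_mem (h2 k) 4
  rintro _ ⟨z, hz, rfl⟩
  obtain ⟨w, hw, e⟩ := hle hz
  rwa [← Subtype.ext (e : (w : Equiv.Perm (Fin 100)) = z)]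

theorem card_grp : Nat.card grp = 44352000 := by
  obtain ⟨ψ, hψ, H, hH, hle⟩ := exists_hom_simple
  refine le_antisymm ?_ ?_
  · haveI : Finite H := Nat.finite_of_card_ne_zero (by rw [hH.2]; norm_num)
    calc Nat.card grp = Nat.card (grp.subgroupOf autGrp) :=
          (Nat.card_congr (Subgroup.subgroupOfEquivOfLe grp_le).toEquiv).symm
      _ = Nat.card ((grp.subgroupOf autGrp).map ψ) := (Subgroup.card_map_of_injective hψ).symm
      _ ≤ Nat.card H := Subgroup.card_le_of_le hle
      _ = 44352000 := hH.2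
  · rw [← levels_prod]
    exact (lower_upper levels [] grp (by simp) (fun _ hσ _ => hσ) levels_ok reps_levels).1

theorem grp_stab : Stab enc grp levels :=
  have h := (lower_upper levels [] grp (by simp) (fun _ hσ _ => hσ) levels_ok reps_levels).2
    (by rw [card_grp, levels_prod])
  ⟨by norm_num, levels_ok, reps_levels, h.1, h.2⟩

/-- Conjugation by a graph automorphism fixes the group. -/
theorem map_conj_grp {δ : Equiv.Perm (Fin 100)} (hδ : δ ∈ autGrp) :
    grp.map (MulAut.conj δ).toMonoidHom = grp := by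
  classical
  haveI : Fintype Hexad22.hexads := Fintype.ofFinite _
  haveI : Finite (Cfsg.pointBlockGraph Hexad22.hexads ≃g Cfsg.pointBlockGraph Hexad22.hexads) :=
    Finite.of_injective _ (Hexad22.permHom_injective _)
  obtain ⟨ψ, hψ, H, hH, -⟩ := exists_hom_simple
  have hA := Hexad22.card_graphAut Hexad22.card_pt22 Hexad22.hexads_steiner
  set G' := grp.map (MulAut.conj δ).toMonoidHom with hG'
  have hle : G' ≤ autGrp := by
    rintro _ ⟨σ, hσ, rfl⟩
    exact autGrp.mul_mem (autGrp.mul_mem hδ (grp_le hσ)) (autGrp.inv_mem hδ)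
  have key : ∀ K : Subgroup (Equiv.Perm (Fin 100)), K ≤ autGrp → Nat.card K = 44352000 →
      (K.subgroupOf autGrp).map ψ = H := fun K hK hc =>
    Hexad22.eq_simple_of_card hA hH.1 hH.2 (by
      rw [Subgroup.card_map_of_injective hψ,
        Nat.card_congr (Subgroup.subgroupOfEquivOfLe hK).toEquiv, hc])
  have h := (key G' hle (by
    rw [hG', Subgroup.card_map_of_injective (MulAut.conj δ).injective, card_grp])).trans
      (key grp grp_le card_grp).symm
  have h' := congrArg (Subgroup.map autGrp.subtype) (Subgroup.map_injective hψ h)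
  rwa [Subgroup.map_subgroupOf_eq_of_le hle, Subgroup.map_subgroupOf_eq_of_le grp_le] at h'

theorem far_facts : levelsOK 100 [16] [farLevel] = true ∧ farLevel.2.1.length = 77 ∧
    farLevel.2.1.all (fun j => !adjB 16 j && j != 16) = true ∧
    levels.head? = some (16, levels.head!.2) ∧ levels.head!.2.1.length = 100 ∧
    (levels.tail.head!.2.1.length = 22 ∧ levels.tail.head!.1 = 23) ∧
    levels.tail.head!.2.1.all (fun j => adjB 16 j) = true ∧ farLevel.1 = 1 := by
  decide +kernel

theorem levels_len : 2 ≤ levels.length := by decide +kernel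

theorem isoHS_grp : Cfsg.Spor.IsoHS grp := by
  classical
  set a : Fin 100 := idx enc 16 with ha
  obtain ⟨hfar, h77, hfarN, hhead, h100, ⟨h22, hb1⟩, hnear, hfar1⟩ := far_facts
  have hS := grp_stab
  rcases hl : levels with _ | ⟨p, _ | ⟨q, rest⟩⟩
  · rw [hl] at hhead; simp at hhead
  · have := levels_len; rw [hl] at this; simp at this
  rw [hl] at hhead h100 h22 hb1 hnear
  simp only [List.head?_cons, List.head!_cons, List.tail_cons, Option.some.injEq] at hhead h100 h22 hb1 hnear
  have hp : p.1 = 16 := by rw [hhead]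
  have hchain := chain_of_cert hS.ok hS.reps hS.upper
  rw [hl] at hchain
  obtain ⟨ho1, ho2, -⟩ := hchain
  have hok := hS.ok
  rw [hl] at hok
  obtain ⟨pb, porb, pts⟩ := p
  obtain ⟨qb, qorb, qts⟩ := q
  simp only [levelsOK, Bool.and_eq_true, decide_eq_true_eq, beq_iff_eq, List.all_eq_true] at hok
  obtain ⟨⟨⟨⟨⟨-, hporb⟩, hpnd⟩, -⟩, -⟩, ⟨⟨⟨⟨-, hqorb⟩, hqnd⟩, -⟩, -⟩, -⟩ := hok
  simp only at hp h100 h22 hb1 ho1 ho2 hnear
  subst hp hb1
  haveI : Finite grp := inferInstance
  have hcardL : ∀ (orb : List ℕ), (∀ x ∈ orb, x < 100) → orb.Nodup →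
      ((orb.map (idx enc)).toFinset).card = orb.length := fun orb h hnd => by
    rw [List.toFinset_card_of_nodup (hnd.map_on fun x hx y hy hxy => by
      rw [← idx_val (e := enc) (h x hx), hxy, idx_val (h y hy)]), List.length_map]
  have huniv : (porb.map (idx enc)).toFinset = Finset.univ :=
    Finset.eq_univ_of_card _ (by rw [hcardL _ hporb hpnd, h100, Fintype.card_fin])
  haveI : IsPretransitive grp (Fin 100) := ⟨fun x y => by
    obtain ⟨σ, hσ, e⟩ := (ho1 x).1 (huniv ▸ Finset.mem_univ x)
    obtain ⟨τ, hτ, e'⟩ := (ho1 y).1 (huniv ▸ Finset.mem_univ y)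
    refine ⟨⟨τ, hτ⟩ * ⟨σ, hσ⟩⁻¹, ?_⟩
    show τ (σ⁻¹ x) = y
    rw [← e, ← Equiv.Perm.mul_apply σ⁻¹, inv_mul_cancel, Equiv.Perm.one_apply, e']⟩
  have hstab : Nat.card (stabilizer grp a) = 443520 := by
    have := (stabilizer grp a).card_mul_index
    rw [index_stabilizer, orbit_eq_univ, Set.ncard_univ, Nat.card_fin, card_grp] at this
    omega
  have horbit : ∀ b : Fin 100, orbit (stabilizer grp a) b =
      {x | ∃ σ ∈ grp ⊓ stabilizer (Equiv.Perm (Fin 100)) a, σ b = x} := fun b => by
    ext x
    constructor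
    · rintro ⟨⟨⟨σ, hσ⟩, hs⟩, rfl⟩; exact ⟨σ, ⟨hσ, hs⟩, rfl⟩
    · rintro ⟨σ, ⟨hσ, hs⟩, rfl⟩; exact ⟨⟨⟨σ, hσ⟩, hs⟩, rfl⟩
  have hb : (orbit (stabilizer grp a) (idx enc 23)).ncard = 22 := by
    rw [horbit, ← h22, ← hcardL _ hqorb hqnd, ← Set.ncard_coe_finset]
    congr 1
    ext x
    exact (ho2 x).symm
  have hc : (orbit (stabilizer grp a) (idx enc 1)).ncard = 77 := by
    obtain ⟨fb, forb, fts, hf⟩ : ∃ fb forb fts, farLevel = (fb, forb, fts) := ⟨_, _, _, rfl⟩
    have hreps := reps
    rw [hf] at hfar h77 hfarN hfar1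
    simp only [levelsOK, Bool.and_eq_true, decide_eq_true_eq, beq_iff_eq, List.all_eq_true,
      bne_iff_ne, Bool.not_eq_eq_eq_not, Bool.not_true] at hfar hfarN
    obtain ⟨⟨⟨⟨⟨-, hforb⟩, hfnd⟩, hfmap⟩, hffix⟩, -⟩ := hfar
    simp only at h77 hfarN hfar1
    subst hfar1
    set L := (forb.map (idx enc)).toFinset with hL
    have hLc : L.card = 77 := by rw [hL, hcardL _ hforb hfnd, h77]
    set N := Finset.univ.filter (fun x : Fin 100 => ¬ graph.Adj a x ∧ x ≠ a) with hN
    have hNc : N.card = 77 := by rw [hN, ha]; decide +kernel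
    have hLN : L = N := by
      refine Finset.eq_of_subset_of_card_le (fun x hx => ?_) (by rw [hNc, hLc])
      obtain ⟨i, hi, rfl⟩ := List.mem_map.1 (List.mem_toFinset.1 hx)
      have h := hfarN i hi
      refine Finset.mem_filter.2 ⟨Finset.mem_univ _, ?_, fun e => h.2 ?_⟩
      · show ¬ adjB (idx enc 16 : Fin 100).val (idx enc i : Fin 100).val = true
        have e1 : (idx enc i : Fin 100).val = i := idx_val (hforb i hi)
        have e2 : (idx enc 16 : Fin 100).val = 16 := idx_val (by norm_num)
        rw [e1, e2, h.1]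
        exact Bool.false_ne_true
      · rw [← idx_val (e := enc) (hforb i hi), e, ha, idx_val (by norm_num)]
    rw [horbit, ← hLc, ← Set.ncard_coe_finset]
    congr 1
    ext x
    rw [Finset.mem_coe]
    constructor
    · rintro ⟨σ, ⟨hσ, hs⟩, rfl⟩
      rw [hLN]
      have h1 : idx enc 1 ∈ N := by rw [hN, ha]; decide +kernel
      rw [hN, Finset.mem_filter] at h1 ⊢
      have hsa : σ a = a := hs
      refine ⟨Finset.mem_univ _, ?_, fun e => h1.2.2 (σ.injective (e.trans hsa.symm))⟩
      have := (grp_le hσ) a (idx enc 1)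
      rw [hsa] at this
      exact fun hadj => h1.2.1 (this.1 hadj)
    · intro hx
      obtain ⟨i, hi, rfl⟩ := List.mem_map.1 (List.mem_toFinset.1 hx)
      obtain ⟨t, ht, rfl⟩ : ∃ t ∈ fts, app t 1 = i := by rw [← hfmap] at hi; simpa using hi
      obtain ⟨σ, hσ, hσr⟩ := hreps t (by
        rw [allReps, List.flatMap_append]
        refine List.mem_append_right _ (List.mem_flatMap.2 ⟨farLevel, List.mem_cons_self, ?_⟩)
        rw [hf]; exact ht)
      refine ⟨σ, ⟨hσ, ?_⟩, hσr.apply_idx (by norm_num)⟩
      show σ a = a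
      rw [ha, hσr.apply_idx (by norm_num), hffix t ht 16 (by simp)]
  exact Hexad22.isoHS_of_rank_three (Fintype.card_fin 100) a (idx enc 23) (idx enc 1) hstab hb hc

end Cfsg.Agent.HSOut
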