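import Cfsg.Agent.Lib.HSOut.Model

/-!
The outer automorphism group of the Higman–Sims group has order two.
-/

set_option autoImplicit false
set_option maxRecDepth 100000
set_option maxHeartbeats 1000000

namespace Cfsg.Agent.HSOut

open Cfsg.Agent.Mathieu

theorem cert_basic : rigidHS.basicOK 100 gens = true := by decide +kernel

theorem cert_cent : rigidHS.centOK 100 levels = true := by decide +kernel

theorem cert_img : rigidHS.imgOK 100 levels = true := by decide +kernel

theorem cert_delta :
    permOK 100 dl = true ∧ presGraph dl = true ∧ isId 100 (packMul 100 dl dl) = true ∧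
      samePack 100 (packMulS 100 (packMulS 100 dl rigidHS.x) dl) rigidHS.x = true := by
  decide +kernel

/-- The conjugate of `t` by the outer involution. -/
def td : ℕ := packMulS 100 (packMulS 100 dl rigidHS.t) dl

theorem td_same : samePack 100 (packMulS 100 (packMulS 100 dl rigidHS.t) dl) td = true := by
  decide +kernel

theorem cert_not_inner : ((solutions 100 rigidHS.x rigidHS.x levels).all fun g =>
    !samePack 100 (packMulS 100 g rigidHS.t) (packMulS 100 td g)) = true := by decide +kernel

theorem card_out_grp : Nat.card (Cfsg.Out grp) = 2 := by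
  obtain ⟨hd1, hd2, hd3, hd4⟩ := cert_delta
  obtain ⟨δ, hδ⟩ := exists_rep (e := enc) hd1
  have hsq : δ * δ = 1 := (rep_packMul hδ hδ).eq_one hd3
  have hδi : Rep enc δ⁻¹ dl := by rw [inv_eq_of_mul_eq_one_right hsq]; exact hδ
  refine outer_card_eq_two grp_stab rfl rigidHS (by norm_num [rigidHS])
    (by rw [card_grp]; norm_num [rigidHS]) (fun l hl => reps l ?_) cert_basic cert_cent cert_img rfl
    hδ hδi (map_conj_grp (mem_autGrp hδ hd2)) hd4 td_same cert_not_inner
  rw [allReps, List.flatMap_append]
  refine List.mem_append_right _ (List.mem_flatMap.2 ⟨_, List.mem_cons_of_mem _ List.mem_cons_self, ?_⟩)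
  exact hl

theorem card_out_congr {G H : Type*} [Group G] [Group H] (e : G ≃* H) :
    Nat.card (Cfsg.Out G) = Nat.card (Cfsg.Out H) := by
  refine Nat.card_congr (QuotientGroup.congr (Cfsg.Inn G) (Cfsg.Inn H) (MulAut.congr e) ?_).toEquiv
  ext f
  constructor
  · rintro ⟨_, ⟨g, rfl⟩, rfl⟩
    exact ⟨e g, MulEquiv.ext fun h => by simp [MulAut.congr]⟩
  · rintro ⟨h, rfl⟩
    refine ⟨MulAut.conj (e.symm h), ⟨e.symm h, rfl⟩, MulEquiv.ext fun k => ?_⟩
    simp [MulAut.congr]

theorem card_out_HS : Nat.card (Cfsg.Out ↥Cfsg.Spor.HS) = 2 := by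
  obtain ⟨e⟩ := isoHS_grp
  exact (card_out_congr e).symm.trans card_out_grp

end Cfsg.Agent.HSOut
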